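import Groth.Agent.Lib.Euler.Scalar
import Groth.Agent.Lib.SubCurve16.Stalk
import Groth.Agent.Lib.FinCov.Frame
import Groth.Agent.Lib.CurvePoints.Basic
import Groth.Agent.Lib.Cohom.Basic

/-!
# A non-surjective functional on a subbundle of a free bundle without sections
-/

set_option autoImplicit false
set_option linter.all false
set_option backward.isDefEq.respectTransparency false
set_option maxHeartbeats 1000000

universe u

open CategoryTheory CategoryTheory.Limits AlgebraicGeometry TopologicalSpace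
open GrothLib.QCoh (stalkLin)

noncomputable section

namespace GrothLib.NegFilt2

attribute [local instance] Abelian.hasFiniteBiproducts

variable {k : Type u} [Field k] [IsAlgClosed k] {X : Scheme.{u}} (p : X ⟶ Spec (CommRingCat.of k))
  [LocallyOfFiniteType p] [IsNoetherian X] [Nonempty X]

/-- Joint injectivity on stalks. -/
def Inj {N : X.Modules} {J : Type} (f : J → (N ⟶ Coh.structureModule X)) (S : Finset J) : Prop :=
  ∀ (x : X) (v : N.presheaf.stalk x), (∀ j ∈ S, stalkLin (f j) x v = 0) → v = 0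

theorem stalkLin_sum {A B : X.Modules} {J : Type*} (S : Finset J) (g : J → (A ⟶ B)) (x : X)
    (v : A.presheaf.stalk x) : stalkLin (∑ j ∈ S, g j) x v = ∑ j ∈ S, stalkLin (g j) x v := by
  classical
  have hadd : ∀ a b : A ⟶ B, stalkLin (a + b) x v = stalkLin a x v + stalkLin b x v := fun a b => by
    obtain ⟨U, hU, s, rfl⟩ := TopCat.Presheaf.exists_germ_eq A.presheaf v
    rw [QCoh.stalkLin_germ, QCoh.stalkLin_germ, QCoh.stalkLin_germ, ← map_add]
    rfl
  induction S using Finset.induction_on with
  | empty =>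
    rw [Finset.sum_empty, Finset.sum_empty]
    exact LinearMap.congr_fun (congrArg ModuleCat.Hom.hom ((OX.stalk x).map_zero A B)) v
  | insert j S hj ih => rw [Finset.sum_insert hj, Finset.sum_insert hj, hadd, ih]

/-- An element `a` of `k` at `x`. -/
def cst (x : X) : k →+* X.presheaf.stalk x :=
  (X.presheaf.germ ⊤ x trivial).hom.comp (show k →+* Γ(X, ⊤) from Coh.toGlobal p)

/-- A combination of functionals. -/
def comb {N : X.Modules} {J : Type} (f : J → (N ⟶ Coh.structureModule X)) (S : Finset J) (a : J → k) :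
    N ⟶ Coh.structureModule X :=
  ∑ j ∈ S, f j ≫ Euler.smulMod (Coh.structureModule X) (Coh.toGlobal p (a j))

theorem stalkLin_comb {N : X.Modules} {J : Type} (f : J → (N ⟶ Coh.structureModule X)) (S : Finset J) (a : J → k)
    (x : X) (v : N.presheaf.stalk x) :
    stalkLin (comb p f S a) x v = ∑ j ∈ S, cst p x (a j) • stalkLin (f j) x v := by
  rw [comb, stalkLin_sum]
  refine Finset.sum_congr rfl fun j _ => ?_
  rw [QCoh.stalkLin_comp, Euler.stalkLin_smulMod]
  rfl

theorem surjective_of_epi_combs {N : X.Modules} {J : Type} (f : J → (N ⟶ Coh.structureModule X)) (S : Finset J)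
    {x : X} (hx : IsClosed ({x} : Set X))
    (e : (Coh.structureModule X).presheaf.stalk x ≃ₗ[X.presheaf.stalk x] X.presheaf.stalk x)
    (hepi : ∀ a : J → k, (∃ j ∈ S, a j ≠ 0) → Epi (comb p f S a)) :
    Function.Surjective (LinearMap.pi fun j : S => e.toLinearMap.comp (stalkLin (f j.1) x)) := by
  classical
  set R := X.presheaf.stalk x
  set Φ := LinearMap.pi fun j : S => e.toLinearMap.comp (stalkLin (f j.1) x)
  have hb := Euler.exists_const_residue p hx
  let ρ : k ≃+* IsLocalRing.ResidueField R :=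
    RingEquiv.ofBijective ((IsLocalRing.residue R).comp (cst p x)) hb
  let ψ : (S → R) → (S → k) := fun w j => ρ.symm (IsLocalRing.residue R (w j))
  have hψs : ∀ (c : k) (w : S → R), ψ (cst p x c • w) = c • ψ w := fun c w => funext fun j => by
    show ρ.symm (IsLocalRing.residue R (cst p x c * w j)) = c * ρ.symm (IsLocalRing.residue R (w j))
    rw [map_mul, map_mul]
    congr 1
    exact ρ.symm_apply_apply c
  let I : Submodule k (S → k) :=
    { carrier := ψ '' (LinearMap.range Φ : Set (S → R))
      add_mem' := by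
        rintro _ _ ⟨w, hw, rfl⟩ ⟨w', hw', rfl⟩
        exact ⟨w + w', add_mem hw hw', funext fun j => by simp [ψ]⟩
      zero_mem' := ⟨0, zero_mem _, funext fun j => by simp [ψ]⟩
      smul_mem' := by
        rintro c _ ⟨w, hw, rfl⟩
        exact ⟨cst p x c • w, Submodule.smul_mem _ _ hw, hψs c w⟩ }
  have hI : I = ⊤ := by
    by_contra hne
    obtain ⟨l, hl0, hl⟩ := Submodule.exists_le_ker_of_lt_top I (lt_top_iff_ne_top.2 hne)
    let a : J → k := fun j => if h : j ∈ S then l (Pi.single ⟨j, h⟩ 1) else 0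
    have hla : ∀ c : S → k, l c = ∑ j : S, a j.1 * c j := by
      intro c
      conv_lhs => rw [← Finset.univ_sum_single c]
      rw [map_sum]
      refine Finset.sum_congr rfl fun j _ => ?_
      rw [show (Pi.single j (c j) : S → k) = c j • Pi.single j 1 by rw [← Pi.single_smul]; simp, map_smul,
        smul_eq_mul, mul_comm]
      simp [a, j.2]
    have ha : ∃ j ∈ S, a j ≠ 0 := by
      by_contra h
      push Not at h
      exact hl0 (LinearMap.ext fun c => by
        rw [hla, Finset.sum_eq_zero fun j _ => by rw [h j.1 j.2, zero_mul]]; rfl)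
    haveI := hepi a ha
    obtain ⟨v, hv⟩ := QCoh.stalkLin_surjective (comb p f S a) x (e.symm 1)
    have h1 : e (stalkLin (comb p f S a) x v) = 1 := by rw [hv, LinearEquiv.apply_symm_apply]
    have h2 : l (ψ (Φ v)) = 0 := hl ⟨Φ v, ⟨v, rfl⟩, rfl⟩
    have h3 : IsLocalRing.residue R (e (stalkLin (comb p f S a) x v)) = ρ (l (ψ (Φ v))) := by
      rw [stalkLin_comb, map_sum, map_sum, hla, map_sum, ← Finset.sum_coe_sort]
      refine Finset.sum_congr rfl fun j _ => ?_
      rw [map_smul, smul_eq_mul, map_mul, map_mul]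
      congr 1
      exact (ρ.apply_symm_apply _).symm
    rw [h1, h2, map_zero, map_one] at h3
    exact one_ne_zero h3
  rw [← LinearMap.range_eq_top]
  refine top_le_iff.1 (Submodule.le_of_le_smul_of_le_jacobson_bot (Module.Finite.fg_top)
    (IsLocalRing.maximalIdeal_le_jacobson ⊥) ?_)
  intro w _
  obtain ⟨u, hu, huw⟩ : ψ w ∈ I := hI ▸ Submodule.mem_top
  refine Submodule.mem_sup.2 ⟨u, hu, w - u, ?_, by abel⟩
  have hsum : w - u = ∑ j : S, (w - u) j • (Pi.single j 1 : S → R) := pi_eq_sum_univ' (w - u)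
  rw [hsum]
  refine Submodule.sum_mem _ fun j _ => Submodule.smul_mem_smul ?_ Submodule.mem_top
  have h := ρ.symm.injective (congrFun huw j)
  rw [← Ideal.Quotient.eq_zero_iff_mem]
  show IsLocalRing.residue R (w j - u j) = 0
  rw [map_sub, h, sub_self]

include p in
theorem exists_functional {N : X.Modules} {m : ℕ} (hN : Coh.IsCoh N) (ι : N ⟶ FlatMod.freeMod X m) [Mono ι]
    (hne : ¬ IsZero N) (h0 : ∀ s : Γ(N, ⊤), s = 0) :
    ∃ φ : N ⟶ Coh.structureModule X, φ ≠ 0 ∧ ¬ Epi φ := by
  classical
  by_contra hcon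
  push Not at hcon
  let f : Fin m → (N ⟶ Coh.structureModule X) := fun j => ι ≫ FinCov.proj X m j
  have huniv : Inj f Finset.univ := fun x v hv => by
    refine QCoh.stalkLin_injective ι x ?_
    rw [map_zero]
    have h := congrArg (fun φ => stalkLin φ x (stalkLin ι x v)) (FinCov.sum_proj_ι (X := X) (n := m))
    simp only [stalkLin_sum] at h
    refine Eq.trans ?_ (Finset.sum_eq_zero (s := Finset.univ)
      (f := fun i => stalkLin (FinCov.proj X m i ≫ Sigma.ι (fun _ : Fin m => Coh.structureModule X) i) x (stalkLin ι x v))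
      fun j hj => ?_)
    · refine (Eq.trans ?_ h.symm)
      exact (LinearMap.congr_fun (congrArg ModuleCat.Hom.hom ((OX.stalk x).map_id _)) _).symm
    · rw [QCoh.stalkLin_comp, show stalkLin (FinCov.proj X m j) x (stalkLin ι x v) = 0 from
        (QCoh.stalkLin_comp _ _ _ _).symm.trans (hv j hj), map_zero]
  obtain ⟨S, hS, hmin⟩ := wellFounded_lt.has_min {S : Finset (Fin m) | Inj f S} ⟨_, huniv⟩
  have hepi : ∀ a : Fin m → k, (∃ j ∈ S, a j ≠ 0) → Epi (comb p f S a) := by
    rintro a ⟨j₀, hj₀, ha⟩
    refine hcon _ fun hz => hmin (S.erase j₀) (fun x v hv => hS x v fun j hj => ?_) (Finset.erase_ssubset hj₀)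
    by_cases hjj : j = j₀
    · subst hjj
      have h1 := stalkLin_comb p f S a x v
      rw [hz, Finset.sum_eq_single j (fun l hl hlj => by rw [hv l (Finset.mem_erase.2 ⟨hlj, hl⟩), smul_zero])
        (fun h => absurd hj h)] at h1
      have h2 : stalkLin (0 : N ⟶ Coh.structureModule X) x v = 0 :=
        LinearMap.congr_fun (congrArg ModuleCat.Hom.hom ((OX.stalk x).map_zero N _)) v
      exact ((ha.isUnit.map (cst p x)).smul_eq_zero).1 (h1.symm.trans h2)
    · exact hv j (Finset.mem_erase.2 ⟨hjj, hj⟩)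
  let O : S → X.Modules := fun _ => Coh.structureModule X
  let β : N ⟶ ⨁ O := biproduct.lift fun j => f j.1
  haveI : Mono β := (OX.mono_iff _).2 fun x => (ModuleCat.mono_iff_injective _).2
    ((injective_iff_map_eq_zero (stalkLin β x)).2 fun v hv => hS x v fun j hj => by
      rw [show f j = β ≫ biproduct.π O ⟨j, hj⟩ from (biproduct.lift_π (f := O) (fun j : S => f j.1) ⟨j, hj⟩).symm,
        QCoh.stalkLin_comp, hv, map_zero])
  have hsurj : ∀ x : X, IsClosed ({x} : Set X) → Function.Surjective (stalkLin β x) := by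
    intro x hx w
    obtain ⟨e⟩ := SubCurve16.nonempty_stalkEquiv (Euler.isInvertible_structure (X := X)) x
    obtain ⟨v, hv⟩ := surjective_of_epi_combs p f S hx e hepi fun j => e (stalkLin (biproduct.π O j) x w)
    refine ⟨v, ?_⟩
    have hπ : ∀ j, stalkLin (biproduct.π O j) x (stalkLin β x v) = stalkLin (biproduct.π O j) x w := fun j => by
      rw [← QCoh.stalkLin_comp, biproduct.lift_π]
      exact e.injective (congrFun hv j)
    have h := fun u => congrArg (fun φ => stalkLin φ x u) (biproduct.total (f := O))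
    simp only [stalkLin_sum, QCoh.stalkLin_comp] at h
    have hid : ∀ u : (⨁ O : X.Modules).presheaf.stalk x, stalkLin (𝟙 (⨁ O)) x u = u := fun u =>
      LinearMap.congr_fun (congrArg ModuleCat.Hom.hom ((OX.stalk x).map_id _)) u
    rw [← hid (stalkLin β x v), ← hid w, ← h, ← h]
    exact Finset.sum_congr rfl fun j _ => by rw [hπ j]
  have hfree : Coh.IsCoh (⨁ O) := QCoh.isCoh_of_iso
    (biproduct.isoCoproduct O ≪≫ (Sigma.whiskerEquiv S.equivFin.symm fun _ => Iso.refl _).symm).symm
      (Euler.isCoh_of_isFinLocFree (OX.isFinLocFree_freeMod X _))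
  have hepiβ : Epi β := by
    have hC := QCoh.isCoh_cokernel β hN hfree
    refine (OX.epi_iff _).2 fun x => (ModuleCat.epi_iff_surjective _).2 ?_
    obtain ⟨y, hy, hyc⟩ := (isClosed_closure (s := ({x} : Set X))).exists_closed_singleton ⟨x, subset_closure rfl⟩
    by_contra hns
    have hxs : x ∈ CohB1.support (cokernel β) := by
      by_contra hxs
      haveI := QCoh.stalk_subsingleton_of_notMem hxs
      refine hns fun w => ?_
      have hex : Function.Exact (stalkLin β x) (stalkLin (cokernel.π β) x) :=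
        (ShortComplex.ShortExact.moduleCat_exact_iff_function_exact _).1
          ((OX.exact_iff (ShortComplex.mk β (cokernel.π β) (cokernel.condition β))).1
            (ShortComplex.exact_of_g_is_cokernel _ (cokernelIsCokernel β)) x)
      exact (hex w).1 (Subsingleton.elim _ _)
    exact QCoh.notMem_support_cokernel_of_surjective β (hsurj y hyc)
      ((QCoh.isClosed_support_of_isCoh hC).closure_subset_iff.2 (Set.singleton_subset_iff.2 hxs) hy)
  haveI : IsIso β := isIso_of_mono_of_epi β
  obtain ⟨j₀, hj₀⟩ : S.Nonempty := by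
    rw [Finset.nonempty_iff_ne_empty]
    intro hS0
    refine hne ((IsZero.iff_id_eq_zero N).2 (Scheme.Modules.hom_ext _ _ fun V => AddCommGrpCat.ext fun t => ?_))
    show t = 0
    exact QCoh.section_eq_zero_of_germ N t fun x _ => hS x _ (by simp [hS0])
  let one : Γ(Coh.structureModule X, ⊤) := (1 : Γ(X, ⊤))
  let s := (inv β).app ⊤ ((biproduct.ι O ⟨j₀, hj₀⟩).app ⊤ one)
  have h1 := congrArg (fun φ : Coh.structureModule X ⟶ Coh.structureModule X => φ.app ⊤ one)
    (show (biproduct.ι O ⟨j₀, hj₀⟩ ≫ inv β) ≫ β ≫ biproduct.π O ⟨j₀, hj₀⟩ = 𝟙 _ by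
      simp only [Category.assoc, IsIso.inv_hom_id_assoc, biproduct.ι_π_self])
  have h2 : (β ≫ biproduct.π O ⟨j₀, hj₀⟩).app ⊤ s = one := h1
  rw [h0 s, map_zero] at h2
  obtain ⟨x⟩ := (inferInstance : Nonempty X)
  exact zero_ne_one (α := X.presheaf.stalk x) (((map_zero (X.presheaf.germ ⊤ x trivial).hom).symm.trans
    (congrArg (X.presheaf.germ ⊤ x trivial) h2)).trans (map_one (X.presheaf.germ ⊤ x trivial).hom))

end GrothLib.NegFilt2
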