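import Groth.Agent.Lib.NegFilt2.Functional
import Groth.Agent.Lib.Euler.VB
import Groth.Agent.Lib.CurveRR.Stable
import Groth.Agent.Lib.CurveRR.Setup
import Groth.Agent.Lib.CurveMult.TwistHom
import Groth.Agent.Lib.RelProjK.Local

/-!
# Filtrations with negative invertible quotients
-/

set_option autoImplicit false
set_option linter.all false
set_option backward.isDefEq.respectTransparency false
set_option maxHeartbeats 1000000

universe u

open CategoryTheory CategoryTheory.Limits AlgebraicGeometry TopologicalSpace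
open GrothLib.QCoh (stalkLin)
open GrothLib.CurveRR (RegCurve)

noncomputable section

namespace GrothLib.NegFilt2

variable (k : Type u) [Field k] {X : Scheme.{u}} [X.Over (Spec (CommRingCat.of k))]
  [IsIntegral X] [IsProper (X ↘ Spec (CommRingCat.of k))] [RegCurve X]

include k in
theorem finrank_H0_pos {Q : X.Modules} (hQ : Coh.IsCoh Q) (hfin : (CohB1.support Q).Finite)
    (hcl : ∀ x ∈ CohB1.support Q, IsClosed ({x} : Set X)) (hne : (CohB1.support Q).Nonempty) :
    0 < Module.finrank k (Coh.HH X Q 0) := by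
  classical
  haveI := Euler.isNoetherian_of_proper (X := X) k
  haveI := Euler.finiteDimensional_HH k hQ 0
  obtain ⟨x, hx⟩ := hne
  have hnt : Nontrivial (Q.presheaf.stalk x) := not_subsingleton_iff_nontrivial.1 hx
  obtain ⟨e, he⟩ := exists_ne (0 : Q.presheaf.stalk x)
  obtain ⟨s, hs⟩ := (Euler.bijective_germs Q hfin hcl).2 (Function.update (fun _ => 0) (⟨x, hx⟩ : CohB1.support Q) e)
  have hs0 : s ≠ 0 := fun h => he (by
    have := congrFun hs ⟨x, hx⟩
    rw [Function.update_self, h] at this
    exact this.symm.trans (map_zero _))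
  haveI : Nontrivial (Coh.HH X Q 0) := ⟨(ProjCoh.H0top Q).symm s, 0, fun h => hs0 (by
    simpa using congrArg (ProjCoh.H0top Q) h)⟩
  exact Module.finrank_pos

include k in
/-- A proper invertible subsheaf of `O` has negative degree. -/
theorem deg_neg {J : X.Modules} (hJ : PicF.IsInvertible J) (j : J ⟶ Coh.structureModule X) [Mono j] (hj : ¬ Epi j) :
    Curv2.deg k X J 1 < 0 := by
  haveI := Euler.isNoetherian_of_proper (X := X) k
  have hd : topologicalKrullDim X ≤ 1 := RegCurve.dim.le
  have hJc := Euler.isCoh_of_isInvertible hJ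
  have hO : Coh.IsCoh (Coh.structureModule X) := Euler.isCoh_of_isInvertible Euler.isInvertible_structure
  have hQ := QCoh.isCoh_cokernel j hJc hO
  obtain ⟨eO⟩ := SubCurve16.nonempty_stalkEquiv (Euler.isInvertible_structure (X := X)) (genericPoint X)
  obtain ⟨eJ⟩ := SubCurve16.nonempty_stalkEquiv hJ (genericPoint X)
  have hη : genericPoint X ∉ CohB1.support (cokernel j) := by
    refine QCoh.notMem_support_cokernel_of_surjective j ?_
    refine SubCurve16.surjective_of_ne_zero (Field.toIsField X.functionField) eO _ (a := eJ.symm 1) fun h => ?_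
    have h2 : eJ.symm 1 = 0 := QCoh.stalkLin_injective j _ (h.trans (map_zero _).symm)
    have h3 := congrArg eJ h2
    rw [map_zero, LinearEquiv.apply_symm_apply] at h3
    exact zero_ne_one (α := X.presheaf.stalk (genericPoint X)) h3.symm
  have hfin := CurvePoints.finite_of_isClosed hd (QCoh.isClosed_support_of_isCoh hQ) hη
  have hcl : ∀ x ∈ CohB1.support (cokernel j), IsClosed ({x} : Set X) := fun x hx =>
    CurvePoints.isClosed_singleton hd fun h => hη (h ▸ hx)
  have hne : (CohB1.support (cokernel j)).Nonempty := by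
    rw [Set.nonempty_iff_ne_empty]
    intro hem
    refine hj ((OX.epi_iff _).2 fun x => (ModuleCat.epi_iff_surjective _).2 fun w => ?_)
    have hex : Function.Exact (stalkLin j x) (stalkLin (cokernel.π j) x) :=
      (ShortComplex.ShortExact.moduleCat_exact_iff_function_exact _).1
        ((OX.exact_iff (ShortComplex.mk j (cokernel.π j) (cokernel.condition j))).1
          (ShortComplex.exact_of_g_is_cokernel _ (cokernelIsCokernel j)) x)
    haveI := QCoh.stalk_subsingleton_of_notMem (show x ∉ CohB1.support (cokernel j) by rw [hem]; exact id)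
    exact (hex w).1 (Subsingleton.elim _ _)
  have hS : (ShortComplex.mk j (cokernel.π j) (cokernel.condition j)).ShortExact :=
    { exact := ShortComplex.exact_of_g_is_cokernel _ (cokernelIsCokernel j) }
  have h1 := Euler.euler_additive k hS hJc hO hQ
  have h2 := Euler.euler_eq_of_finite_support k (cokernel j) hfin hcl
  have h3 := finrank_H0_pos k hQ hfin hcl hne
  dsimp only at h1
  rw [Curv2.deg]
  omega

variable [IsAlgClosed k]

include k in
/-- The filtration. -/
theorem exists_filtration : ∀ (r : ℕ) (N : X.Modules) (m : ℕ), FlatMod.IsFinLocFreeOfRank r N →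
    ∀ (ι : N ⟶ FlatMod.freeMod X m), Mono ι → (∀ s : Γ(N, ⊤), s = 0) →
    ∃ (M : Fin (r + 1) → X.Modules) (f : (j : Fin r) → (M j.succ ⟶ M j.castSucc)),
      Nonempty (M 0 ≅ N) ∧ IsZero (M (Fin.last r)) ∧
        ∀ j : Fin r, Mono (f j) ∧ PicF.IsInvertible (cokernel (f j)) ∧ Curv2.deg k X (cokernel (f j)) 1 < 0 := by
  haveI := Euler.isNoetherian_of_proper (X := X) k
  intro r
  induction r with
  | zero =>
    intro N m hN ι _ h0
    exact ⟨fun _ => N, fun j => j.elim0, ⟨Iso.refl _⟩, Euler.isZero_of_rank_zero hN, fun j => j.elim0⟩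
  | succ r ih =>
    intro N m hN ι hι h0
    haveI := hι
    have hNc := Euler.isCoh_of_isFinLocFree (FinCov.isFinLocFree_of_rank hN)
    have hO : Coh.IsCoh (Coh.structureModule X) := Euler.isCoh_of_isInvertible Euler.isInvertible_structure
    have hO1 := Euler.isFinLocFreeOfRank_one' (Euler.isInvertible_structure (X := X))
    have hne : ¬ IsZero N := fun h => by
      have h1 := Euler.grank_of_locFree hN
      haveI : Subsingleton (N.presheaf.stalk (genericPoint X)) := ModuleCat.subsingleton_of_isZero ((OX.stalk (genericPoint X)).map_isZero h)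
      rw [Euler.grank, Module.finrank_zero_of_subsingleton] at h1
      omega
    obtain ⟨φ, hφ0, hφe⟩ := exists_functional (X ↘ Spec (CommRingCat.of k)) hNc ι hne h0
    let T := ShortComplex.mk (kernel.ι φ) (Abelian.factorThruImage φ)
      (by rw [← cancel_mono (Abelian.image.ι φ), Category.assoc, Abelian.image.fac, kernel.condition, zero_comp])
    have hT : T.ShortExact :=
      { exact := ShortComplex.exact_of_f_is_kernel _ (KernelFork.IsLimit.ofι' _ _ fun g hg => ⟨kernel.lift φ g
          (by rw [← Abelian.image.fac φ, ← Category.assoc, hg, zero_comp]), kernel.lift_ι _ _ _⟩) }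
    have hKc := QCoh.isCoh_kernel φ hNc hO
    have hJc : Coh.IsCoh (Abelian.image φ) := QCoh.isCoh_kernel _ hO (QCoh.isCoh_cokernel φ hNc hO)
    have hK' := Euler.isFinLocFreeOfRank_of_mono CurveRR.pid_stalk (kernel.ι φ) hKc (FinCov.isFinLocFree_of_rank hN)
    have hJ' := Euler.isFinLocFreeOfRank_of_mono CurveRR.pid_stalk (Abelian.image.ι φ) hJc
      (FinCov.isFinLocFree_of_rank hO1)
    have hgr : Euler.grank N = Euler.grank (kernel φ) + Euler.grank (Abelian.image φ) :=
      Euler.grank_additive (S := T) hT hNc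
    rw [Euler.grank_of_locFree hN] at hgr
    have hJ1 : Euler.grank (Abelian.image φ) ≤ 1 :=
      (Euler.grank_le_of_mono (Abelian.image.ι φ) hO).trans_eq (Euler.grank_of_locFree hO1)
    have hJ0 : Euler.grank (Abelian.image φ) ≠ 0 := fun e => hφ0 (by
      rw [e] at hJ'
      rw [← Abelian.image.fac φ, (Euler.isZero_of_rank_zero hJ').eq_of_src (Abelian.image.ι φ) 0, comp_zero])
    have e1 : Euler.grank (kernel φ) = r := by omega
    have e2 : Euler.grank (Abelian.image φ) = 1 := by omega
    rw [e1] at hK'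
    rw [e2] at hJ'
    have hJinv : PicF.IsInvertible (Abelian.image φ) := CurveMult.isInvertible_of_rank_one hJ'
    have hdeg := deg_neg k hJinv (Abelian.image.ι φ) fun he => hφe (Abelian.image.fac φ ▸ epi_comp _ _)
    obtain ⟨M, f, ⟨eM⟩, hlast, hf⟩ := ih (kernel φ) m hK' (kernel.ι φ ≫ ι) inferInstance fun s =>
      Cohom.app_injective_of_mono (kernel.ι φ) ⊤ ((h0 _).trans (map_zero _).symm)
    let M' : Fin (r + 2) → X.Modules := Fin.cons N M
    refine ⟨M', Fin.cases (motive := fun j => M' j.succ ⟶ M' j.castSucc) (eM.hom ≫ kernel.ι φ) (fun j => f j),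
      ⟨Iso.refl _⟩, hlast, Fin.cases ?_ hf⟩
    have eC : cokernel (eM.hom ≫ kernel.ι φ) ≅ Abelian.image φ :=
      cokernelEpiComp eM.hom (kernel.ι φ) ≪≫ (cokernelIsCokernel _).coconePointUniqueUpToIso hT.gIsCokernel
    exact ⟨mono_comp eM.hom (kernel.ι φ), RelProjK.isInvertible_of_iso eC hJinv,
      lt_of_eq_of_lt (Euler.deg_of_iso k eC 1) hdeg⟩

end GrothLib.NegFilt2
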